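import Mathlib
import Cfsg.Agent.H384.RC.KRule
import Cfsg.Agent.H384.RC.Asm
import Cfsg.Agent.H25.RC.Two
import Cfsg.Agent.LieClassical.OrthFourCommon
import Cfsg.Agent.LieClassical.SLGen
import Cfsg.Agent.S0287

/-!
# S3510 part B, box B43: `PSL_4(3)`, the graph involution with centraliser `PGO_4^+(3)` (helper25)
-/

set_option autoImplicit false

namespace Cfsg.Agent.H25.RC.FT

open Matrix
open Cfsg.Agent.H106.RC Cfsg.Agent.H999.PslGraph Cfsg.Agent.H384.RC
open Cfsg.Agent.ClassicalGeometry.AutPSL.Auto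

variable {F : Type} [Field F]

/-- the determinant form on `2 × 2` matrices -/
def Qd (v : Fin 2 × Fin 2 → F) : F := v (0, 0) * v (1, 1) - v (0, 1) * v (1, 0)

/-- coordinates -/
def eqv : (Fin 2 ⊕ Fin 2 → F) ≃ₗ[F] (Fin 2 × Fin 2 → F) where
  toFun v := fun p => if p = (0, 0) then v (.inl 0) else if p = (0, 1) then v (.inl 1) else
    if p = (1, 0) then - v (.inr 1) else v (.inr 0)
  invFun w := Sum.elim ![w (0, 0), w (0, 1)] ![w (1, 1), - w (1, 0)]
  map_add' v w := by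
    ext ⟨i, j⟩
    fin_cases i <;> fin_cases j <;> simp [add_comm]
  map_smul' c v := by
    ext ⟨i, j⟩
    fin_cases i <;> fin_cases j <;> simp
  left_inv v := by
    ext (i | i) <;> fin_cases i <;> simp
  right_inv w := by
    ext ⟨i, j⟩
    fin_cases i <;> fin_cases j <;> simp

theorem Qd_eqv (v : Fin 2 ⊕ Fin 2 → F) : Qd (eqv v) = Cfsg.quadFormPlus 2 F v := by
  simp [Qd, eqv, Cfsg.quadFormPlus, Fin.sum_univ_two]

theorem card_G [Fintype F] (hF : Fintype.card F = 3) :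
    Nat.card (Cfsg.isometryGroup F (Qd (F := F))) = 1152 := by
  obtain ⟨e1⟩ := Cfsg.Agent.LieClassical.OrthFourCommon.exists_isometryGroup_equiv
    (LinearEquiv.refl F (Fin 2 × Fin 2 → F)) (Qd (F := F)) (Qd (F := F)) (fun _ => rfl)
  obtain ⟨e2⟩ := Cfsg.Agent.LieClassical.OrthFourCommon.exists_isometryGroup_equiv
    (eqv (F := F)) (Cfsg.quadFormPlus 2 F) (Qd (F := F)) Qd_eqv
  rw [Nat.card_congr (e1.trans e2.symm).toEquiv, Cfsg.Agent.S0287.result hF 2 (by norm_num)]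
  simp

/-- the Gram matrix -/
def Bm : Matrix (Fin 2 × Fin 2) (Fin 2 × Fin 2) F :=
  Matrix.kroneckerMap (· * ·) !![0, 1; -1, 0] !![0, 1; -1, 0]

theorem dot_Bm (v w : Fin 2 × Fin 2 → F) : v ⬝ᵥ (Bm *ᵥ w) =
    v (0, 0) * w (1, 1) - v (0, 1) * w (1, 0) - v (1, 0) * w (0, 1) + v (1, 1) * w (0, 0) := by
  simp [Bm, dotProduct, Matrix.mulVec, Fintype.sum_prod_type, Fin.sum_univ_two,
    Matrix.kroneckerMap_apply]
  ring

theorem Qd_add (v w : Fin 2 × Fin 2 → F) : Qd (v + w) = Qd v + Qd w + v ⬝ᵥ (Bm *ᵥ w) := by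
  rw [dot_Bm]
  simp only [Qd, Pi.add_apply]
  ring

theorem mem_iff (h2 : (2 : F) ≠ 0) (A : GL (Fin 2 × Fin 2) F) :
    A ∈ Cfsg.isometryGroup F (Qd (F := F)) ↔
      (A : Matrix (Fin 2 × Fin 2) (Fin 2 × Fin 2) F)ᵀ * Bm * (A : Matrix _ _ F) = Bm := by
  have hbil : ∀ (v w : Fin 2 × Fin 2 → F), v ⬝ᵥ (((A : Matrix (Fin 2 × Fin 2) (Fin 2 × Fin 2) F)ᵀ *
      Bm * (A : Matrix _ _ F)) *ᵥ w) = ((A : Matrix _ _ F) *ᵥ v) ⬝ᵥ (Bm *ᵥ ((A : Matrix _ _ F) *ᵥ w)) := by
    intro v w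
    rw [← Matrix.mulVec_mulVec, ← Matrix.mulVec_mulVec, Matrix.dotProduct_mulVec, Matrix.vecMul_transpose]
  have hQ : ∀ v : Fin 2 × Fin 2 → F, v ⬝ᵥ (Bm *ᵥ v) = 2 * Qd v := by
    intro v
    rw [dot_Bm, Qd]
    ring
  constructor
  · intro h
    have h1 : ∀ v, Qd ((A : Matrix _ _ F) *ᵥ v) = Qd v := fun v => h v v
    have h2 : ∀ v w : Fin 2 × Fin 2 → F,
        v ⬝ᵥ (((A : Matrix (Fin 2 × Fin 2) (Fin 2 × Fin 2) F)ᵀ * Bm * (A : Matrix _ _ F)) *ᵥ w) =
        v ⬝ᵥ (Bm *ᵥ w) := by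
      intro v w
      rw [hbil]
      have h3 := Qd_add ((A : Matrix _ _ F) *ᵥ v) ((A : Matrix _ _ F) *ᵥ w)
      rw [← Matrix.mulVec_add, h1, h1, h1, Qd_add] at h3
      exact (add_left_cancel h3).symm
    ext i j
    have h3 := h2 (Pi.single i 1) (Pi.single j 1)
    simpa using h3
  · intro h u v
    have h1 := hbil u u
    rw [h, hQ, hQ] at h1
    exact (mul_left_cancel₀ h2 h1).symm

/-- the unipotent element `(1 + a E₁₂) ⊗ (1 + b E₁₂)` -/
def Wm (a b : F) : Matrix (Fin 2 × Fin 2) (Fin 2 × Fin 2) F :=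
  Matrix.kroneckerMap (· * ·) !![1, a; 0, 1] !![1, b; 0, 1]

theorem Wm_mul (a b c d : F) : Wm a b * Wm c d = Wm (a + c) (b + d) := by
  ext ⟨i, i'⟩ ⟨j, j'⟩
  fin_cases i <;> fin_cases i' <;> fin_cases j <;> fin_cases j' <;>
    simp [Wm, Matrix.mul_apply, Fintype.sum_prod_type, Fin.sum_univ_two] <;> ring

theorem Wm_zero : Wm (0 : F) 0 = 1 := by
  ext ⟨i, i'⟩ ⟨j, j'⟩
  fin_cases i <;> fin_cases i' <;> fin_cases j <;> fin_cases j' <;>
    simp [Wm]

/-- the unipotent element as a unit -/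
def W (a b : F) : GL (Fin 2 × Fin 2) F where
  val := Wm a b
  inv := Wm (-a) (-b)
  val_inv := by rw [Wm_mul, add_neg_cancel, add_neg_cancel, Wm_zero]
  inv_val := by rw [Wm_mul, neg_add_cancel, neg_add_cancel, Wm_zero]

theorem coe_W (a b : F) : (W a b : Matrix (Fin 2 × Fin 2) (Fin 2 × Fin 2) F) = Wm a b := rfl

theorem W_mem (h2 : (2 : F) ≠ 0) (a b : F) : W a b ∈ Cfsg.isometryGroup F (Qd (F := F)) := by
  rw [mem_iff h2, coe_W]
  ext ⟨i, i'⟩ ⟨j, j'⟩
  fin_cases i <;> fin_cases i' <;> fin_cases j <;> fin_cases j' <;>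
    simp [Wm, Bm, Matrix.mul_apply, Fintype.sum_prod_type, Fin.sum_univ_two, mul_comm]

/-- the homomorphism with image a Sylow `3`-subgroup -/
def Wh (h2 : (2 : F) ≠ 0) : Multiplicative (F × F) →* Cfsg.isometryGroup F (Qd (F := F)) where
  toFun z := ⟨W z.toAdd.1 z.toAdd.2, W_mem h2 _ _⟩
  map_one' := by
    apply Subtype.ext
    apply Units.ext
    exact Wm_zero
  map_mul' z w := by
    apply Subtype.ext
    apply Units.ext
    exact (Wm_mul _ _ _ _).symm

theorem Wh_inj (h2 : (2 : F) ≠ 0) : Function.Injective (Wh h2) := by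
  intro z w h
  have h1 : Wm z.toAdd.1 z.toAdd.2 = Wm w.toAdd.1 w.toAdd.2 :=
    congrArg (fun t : Cfsg.isometryGroup F (Qd (F := F)) =>
      ((t : GL (Fin 2 × Fin 2) F) : Matrix (Fin 2 × Fin 2) (Fin 2 × Fin 2) F)) h
  have h3 := congrFun (congrFun h1 (0, 0)) (1, 0)
  have h4 := congrFun (congrFun h1 (0, 0)) (0, 1)
  simp [Wm] at h3 h4
  apply Multiplicative.toAdd.injective
  exact Prod.ext h3 h4

theorem card_range [Fintype F] (hF : Fintype.card F = 3) (h2 : (2 : F) ≠ 0) :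
    Nat.card (Wh h2).range = 9 := by
  rw [← Nat.card_congr (MonoidHom.ofInjective (Wh_inj h2)).toEquiv]
  change Nat.card (F × F) = 9
  rw [Nat.card_prod, Nat.card_eq_fintype_card, hF]

/-- every element of order a power of three is conjugate to a `W a b` -/
theorem exists_conj [Fintype F] (hF : Fintype.card F = 3) (h2 : (2 : F) ≠ 0)
    (A : Cfsg.isometryGroup F (Qd (F := F))) (hA : A ^ 3 = 1) :
    ∃ (g : Cfsg.isometryGroup F (Qd (F := F))) (a b : F), ((g * A * g⁻¹ :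
      Cfsg.isometryGroup F (Qd (F := F))) : GL (Fin 2 × Fin 2) F) = W a b := by
  classical
  have : Fact (Nat.Prime 3) := ⟨Nat.prime_three⟩
  have hA' : IsPGroup 3 (Subgroup.zpowers A) := by
    apply IsPGroup.of_card (n := (orderOf A).factorization 3)
    rw [Nat.card_zpowers]
    rcases (Nat.dvd_prime Nat.prime_three).1 (orderOf_dvd_of_pow_eq_one hA) with h | h
    · rw [h]; simp
    · rw [h]; simp [Nat.Prime.factorization_self Nat.prime_three]
  have hU : IsPGroup 3 (Wh h2).range := by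
    apply IsPGroup.of_card (n := 2)
    rw [card_range hF h2]
    norm_num
  obtain ⟨P, hP⟩ := hA'.exists_le_sylow
  obtain ⟨P', hP'⟩ := hU.exists_le_sylow
  have hPU : (P' : Subgroup (Cfsg.isometryGroup F (Qd (F := F)))) = (Wh h2).range := by
    symm
    apply Subgroup.eq_of_le_of_card_ge hP'
    rw [card_range hF h2]
    obtain ⟨n, hn⟩ := (IsPGroup.iff_card.1 P'.isPGroup')
    have hd : Nat.card (P' : Subgroup (Cfsg.isometryGroup F (Qd (F := F)))) ∣ 1152 := by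
      rw [← card_G hF]
      exact Subgroup.card_subgroup_dvd_card _
    rw [hn] at hd ⊢
    have h3 : n ≤ 2 := by
      by_contra h
      have h4 : 3 ^ 3 ∣ 3 ^ n := pow_dvd_pow 3 (by omega)
      have h5 := h4.trans hd
      norm_num at h5
    calc 3 ^ n ≤ 3 ^ 2 := Nat.pow_le_pow_right (by norm_num) h3
      _ = 9 := by norm_num
  obtain ⟨g, hg⟩ := MulAction.exists_smul_eq (Cfsg.isometryGroup F (Qd (F := F))) P P'
  have h6 : g * A * g⁻¹ ∈ (Wh h2).range := by
    rw [← hPU, ← hg]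
    rw [Sylow.coe_subgroup_smul]
    refine ⟨A, hP (Subgroup.mem_zpowers A), ?_⟩
    rfl
  obtain ⟨z, hz⟩ := h6
  exact ⟨g, z.toAdd.1, z.toAdd.2, congrArg Subtype.val hz.symm⟩

/-- transvections as units -/
def tv {i j : Fin 2 × Fin 2} (h : i ≠ j) (c : F) : GL (Fin 2 × Fin 2) F where
  val := Matrix.transvection i j c
  inv := Matrix.transvection i j (-c)
  val_inv := by
    rw [Matrix.transvection_mul_transvection_same i j h, add_neg_cancel, Matrix.transvection_zero]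
  inv_val := by
    rw [Matrix.transvection_mul_transvection_same i j h, neg_add_cancel, Matrix.transvection_zero]

theorem coe_tv {i j : Fin 2 × Fin 2} (h : i ≠ j) (c : F) :
    (tv h c : Matrix (Fin 2 × Fin 2) (Fin 2 × Fin 2) F) = Matrix.transvection i j c := rfl

theorem tv_inn {i j : Fin 2 × Fin 2} (h : i ≠ j) (c : F) :
    Cj (tv h c) ∈ inn (Matrix.ProjectiveSpecialLinearGroup (Fin 2 × Fin 2) F) :=
  Cj_mem_inn _ (Matrix.det_transvection_of_ne i j h c)

theorem tv_comm {i j k l : Fin 2 × Fin 2} (h : i ≠ j) (h' : k ≠ l) (h1 : j ≠ k) (h2 : l ≠ i) (c d : F) :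
    tv h c * tv h' d = tv h' d * tv h c := by
  apply Units.ext
  show Matrix.transvection i j c * Matrix.transvection k l d =
    Matrix.transvection k l d * Matrix.transvection i j c
  have e1 : Matrix.single i j c * Matrix.single k l d = 0 :=
    Matrix.single_mul_single_of_ne (h := h1) ..
  have e2 : Matrix.single k l d * Matrix.single i j c = 0 :=
    Matrix.single_mul_single_of_ne (h := h2) ..
  unfold Matrix.transvection
  rw [add_mul, mul_add, mul_add, add_mul, mul_add, mul_add, e1, e2]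
  simp only [one_mul, mul_one, add_zero]
  abel

theorem h03 : ((0, 0) : Fin 2 × Fin 2) ≠ (1, 1) := by decide
theorem h01 : ((0, 0) : Fin 2 × Fin 2) ≠ (0, 1) := by decide
theorem h02 : ((0, 0) : Fin 2 × Fin 2) ≠ (1, 0) := by decide

theorem tv_W (a b c : F) : tv h03 c * W a b = W a b * tv h03 c := by
  apply Units.ext
  show Matrix.transvection (0, 0) (1, 1) c * Wm a b = Wm a b * Matrix.transvection (0, 0) (1, 1) c
  ext ⟨i, i'⟩ ⟨j, j'⟩
  fin_cases i <;> fin_cases i' <;> fin_cases j <;> fin_cases j' <;>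
    simp [Wm, Matrix.transvection, Matrix.mul_apply, Matrix.add_apply, Matrix.single_apply,
      Fintype.sum_prod_type, Fin.sum_univ_two, Matrix.one_apply]
  ring

theorem tv_W1 (a b c : F) : tv h01 c * W a b = tv h03 (c * a) * (W a b * tv h01 c) := by
  apply Units.ext
  show Matrix.transvection (0, 0) (0, 1) c * Wm a b =
    Matrix.transvection (0, 0) (1, 1) (c * a) * (Wm a b * Matrix.transvection (0, 0) (0, 1) c)
  ext ⟨i, i'⟩ ⟨j, j'⟩
  fin_cases i <;> fin_cases i' <;> fin_cases j <;> fin_cases j' <;>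
    simp [Wm, Matrix.transvection, Matrix.mul_apply, Matrix.add_apply, Matrix.single_apply,
      Fintype.sum_prod_type, Fin.sum_univ_two, Matrix.one_apply]
  ring

theorem tv_W2 (a b c : F) : tv h02 c * W a b = tv h03 (c * b) * (W a b * tv h02 c) := by
  apply Units.ext
  show Matrix.transvection (0, 0) (1, 0) c * Wm a b =
    Matrix.transvection (0, 0) (1, 1) (c * b) * (Wm a b * Matrix.transvection (0, 0) (1, 0) c)
  ext ⟨i, i'⟩ ⟨j, j'⟩
  fin_cases i <;> fin_cases i' <;> fin_cases j <;> fin_cases j' <;>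
    simp [Wm, Matrix.transvection, Matrix.mul_apply, Matrix.add_apply, Matrix.single_apply,
      Fintype.sum_prod_type, Fin.sum_univ_two, Matrix.one_apply]
  ring

theorem tv_B (c : F) : (tv h03 c : Matrix (Fin 2 × Fin 2) (Fin 2 × Fin 2) F)ᵀ * Bm =
    Bm * (tv h03 c : Matrix (Fin 2 × Fin 2) (Fin 2 × Fin 2) F) := by
  rw [coe_tv]
  ext ⟨i, i'⟩ ⟨j, j'⟩
  fin_cases i <;> fin_cases i' <;> fin_cases j <;> fin_cases j' <;>
    simp [Bm, Matrix.transvection, Matrix.mul_apply, Matrix.add_apply, Matrix.single_apply,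
      Fintype.sum_prod_type, Fin.sum_univ_two, Matrix.one_apply]

theorem two_ne [Fintype F] (hF : Fintype.card F = 3) : (2 : F) ≠ 0 ∧ (3 : F) = 0 := by
  have h3 : (3 : F) = 0 := by
    have := FiniteField.cast_card_eq_zero F
    rw [hF] at this
    exact_mod_cast this
  refine ⟨fun h => ?_, h3⟩
  have : (1 : F) = 3 - 2 := by norm_num
  rw [h3, h, sub_zero] at this
  exact one_ne_zero this

theorem sq_one [Fintype F] (hF : Fintype.card F = 3) {c : F} (hc : c ≠ 0) : c ^ 2 = 1 := by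
  have := FiniteField.pow_card_sub_one_eq_one c hc
  rwa [hF] at this

theorem refl_of_card [Fintype F] (hF : Fintype.card F = 3) (σ : F ≃+* F) : σ = RingEquiv.refl F := by
  apply RingEquiv.ext
  intro c
  show σ c = c
  have h3 := (two_ne hF).2
  by_cases hc : c = 0
  · rw [hc, map_zero]
  · have h1 := sq_one hF hc
    have h2 : (c - 1) * (c + 1) = 0 := by linear_combination h1
    rcases mul_eq_zero.1 h2 with h | h
    · rw [sub_eq_zero.1 h, map_one]
    · rw [eq_neg_of_add_eq_zero_left h, map_neg, map_one]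

theorem ne_one_k : Cj (tv h03 (1 : F)) ≠ 1 := by
  intro h
  obtain ⟨c, hc⟩ := Cj_eq_one_iff.1 h
  have h1 := congrFun (congrFun hc (0, 0)) (1, 1)
  rw [coe_tv] at h1
  simp [Matrix.transvection] at h1

/-- `[q, t] = k` -/
theorem comm_qt [Fintype F] (hF : Fintype.card F = 3) (B : GL (Fin 2 × Fin 2) F)
    (hB : (B : Matrix (Fin 2 × Fin 2) (Fin 2 × Fin 2) F) = Bm) :
    Cj (tv h03 (1 : F)) = Cj (tv h03 (-1 : F)) * gam B * (Cj (tv h03 (-1 : F)))⁻¹ * (gam B)⁻¹ := by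
  rw [comm_gam]
  congr 1
  have h1 : B⁻¹ * (ct (tv h03 (-1 : F)))⁻¹ * B = tv h03 (-1 : F) := by
    rw [mul_assoc, inv_mul_eq_iff_eq_mul]
    apply Units.ext
    rw [Units.val_mul, Units.val_mul, coe_ct_inv, hB]
    exact tv_B _
  rw [h1]
  apply Units.ext
  show Matrix.transvection _ _ _ = Matrix.transvection _ _ _ * Matrix.transvection _ _ _
  rw [Matrix.transvection_mul_transvection_same _ _ h03]
  congr 1
  linear_combination (two_ne hF).2

/-- the `3`-element `x = Cj (W a b)`: the element `c` -/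
theorem exists_c {a b : F} (hab : a ≠ 0 ∨ b ≠ 0) :
    ∃ c ∈ inn (Matrix.ProjectiveSpecialLinearGroup (Fin 2 × Fin 2) F),
      c * Cj (tv h03 (1 : F)) = Cj (tv h03 (1 : F)) * c ∧
      Cj (tv h03 (1 : F)) = c * Cj (W a b) * c⁻¹ * (Cj (W a b))⁻¹ := by
  rcases hab with h | h
  · refine ⟨Cj (tv h01 a⁻¹), tv_inn _ _, ?_, ?_⟩
    · rw [← map_mul, ← map_mul, tv_comm _ _ (by decide) (by decide)]
    · rw [eq_mul_inv_iff_mul_eq, eq_mul_inv_iff_mul_eq, ← map_mul, ← map_mul, ← map_mul, tv_W1,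
        inv_mul_cancel₀ h, mul_assoc]
  · refine ⟨Cj (tv h02 b⁻¹), tv_inn _ _, ?_, ?_⟩
    · rw [← map_mul, ← map_mul, tv_comm _ _ (by decide) (by decide)]
    · rw [eq_mul_inv_iff_mul_eq, eq_mul_inv_iff_mul_eq, ← map_mul, ← map_mul, ← map_mul, tv_W2,
        inv_mul_cancel₀ h, mul_assoc]

/-- the elements of odd prime order commuting with `t` -/
theorem exists_iso [Fintype F] (hF : Fintype.card F = 3) (B : GL (Fin 2 × Fin 2) F)
    (hB : (B : Matrix (Fin 2 × Fin 2) (Fin 2 × Fin 2) F) = Bm)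
    (x : MulAut (Matrix.ProjectiveSpecialLinearGroup (Fin 2 × Fin 2) F)) {r : ℕ} (hr : Odd r)
    (hx : x ^ r = 1) (hc : gam B * x = x * gam B) :
    ∃ A : Cfsg.isometryGroup F (Qd (F := F)), x = Cj (A : GL (Fin 2 × Fin 2) F) ∧ A ^ r = 1 := by
  obtain ⟨A, σ, rfl⟩ := exists_sem_of_odd (by simp) x hr hx
  rw [refl_of_card hF σ, Sem_one] at hx hc ⊢
  obtain ⟨h2, h3⟩ := two_ne hF
  obtain ⟨c, hc0, hc⟩ := (gam_comm_Cj_iff B A).1 hc
  obtain ⟨μ, hμ⟩ := Cj_eq_one_iff.1 (by rw [map_pow]; exact hx : Cj (A ^ r) = 1)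
  have hμ0 : μ ≠ 0 := by
    rintro rfl
    rw [zero_smul] at hμ
    exact (A ^ r).ne_zero hμ
  have hc2 : c ^ 2 = 1 := sq_one hF hc0
  have hμ2 : μ ^ 2 = 1 := sq_one hF hμ0
  -- powers
  have hpow : ∀ k : ℕ, c ^ k • (((A ^ k : GL (Fin 2 × Fin 2) F) : Matrix (Fin 2 × Fin 2) (Fin 2 × Fin 2) F)ᵀ *
      B * ((A ^ k : GL (Fin 2 × Fin 2) F) : Matrix (Fin 2 × Fin 2) (Fin 2 × Fin 2) F)) = B := by
    intro k
    induction k with
    | zero => simp
    | succ k ih =>
      rw [pow_succ, pow_succ, Units.val_mul, Matrix.transpose_mul]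
      calc (c ^ k * c) • ((A : Matrix (Fin 2 × Fin 2) (Fin 2 × Fin 2) F)ᵀ *
            ((A ^ k : GL (Fin 2 × Fin 2) F) : Matrix (Fin 2 × Fin 2) (Fin 2 × Fin 2) F)ᵀ * B *
            (((A ^ k : GL (Fin 2 × Fin 2) F) : Matrix (Fin 2 × Fin 2) (Fin 2 × Fin 2) F) * A)) =
          c • ((A : Matrix (Fin 2 × Fin 2) (Fin 2 × Fin 2) F)ᵀ * (c ^ k •
            (((A ^ k : GL (Fin 2 × Fin 2) F) : Matrix (Fin 2 × Fin 2) (Fin 2 × Fin 2) F)ᵀ * B *
            ((A ^ k : GL (Fin 2 × Fin 2) F) : Matrix (Fin 2 × Fin 2) (Fin 2 × Fin 2) F))) * A) := by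
            rw [mul_comm (c ^ k) c, mul_smul]
            simp only [Matrix.mul_smul, Matrix.smul_mul, Matrix.mul_assoc]
        _ = B := by rw [ih, ← hc]
  obtain ⟨m, rfl⟩ := hr
  have hev : c ^ (2 * m + 1 + 1) = 1 := by
    have : 2 * m + 1 + 1 = 2 * (m + 1) := by ring
    rw [this, pow_mul, hc2, one_pow]
  have hmem : A ^ (2 * m + 1 + 1) ∈ Cfsg.isometryGroup F (Qd (F := F)) := by
    rw [mem_iff h2]
    have := hpow (2 * m + 1 + 1)
    rw [hev, one_smul, hB] at this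
    exact this
  refine ⟨⟨A ^ (2 * m + 1 + 1), hmem⟩, ?_, ?_⟩
  · show Cj A = Cj (A ^ (2 * m + 1 + 1))
    rw [map_pow, pow_succ, hx, one_mul]
  · apply Subtype.ext
    show (A ^ (2 * m + 1 + 1)) ^ (2 * m + 1) = 1
    rw [← pow_mul, mul_comm, pow_mul]
    have h5 : 2 * m + 1 + 1 = 2 * (m + 1) := by ring
    have h6 : (A ^ (2 * m + 1)) ^ 2 = 1 := by
      apply Units.ext
      rw [Units.val_pow_eq_pow_val, hμ, smul_pow, one_pow, hμ2, one_smul, Units.val_one]
    rw [h5, pow_mul, h6, one_pow]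

end Cfsg.Agent.H25.RC.FT

open Matrix Cfsg
open Cfsg.Agent.H106.RC Cfsg.Agent.H999.PslGraph Cfsg.Agent.H384.RC
open Cfsg.Agent.ClassicalGeometry.AutPSL.Auto

namespace Cfsg.Agent.H25.RC

open FT in
/-- box B43 -/
theorem killed_43 {F : Type} [Field F] [Fintype F] (hF : Fintype.card F = 3)
    (B : GL (Fin 2 × Fin 2) F)
    (hB : (B : Matrix (Fin 2 × Fin 2) (Fin 2 × Fin 2) F) =
      Matrix.kroneckerMap (· * ·) !![0, 1; -1, 0] !![0, 1; -1, 0]) : Killed (gam B) := by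
  have hB' : (B : Matrix (Fin 2 × Fin 2) (Fin 2 × Fin 2) F) = Bm := hB
  obtain ⟨h2, h3⟩ := two_ne hF
  have hS : IsSimpleGroup (Matrix.ProjectiveSpecialLinearGroup (Fin 2 × Fin 2) F) :=
    Cfsg.Agent.LieClassical.SLGen.psl_isSimpleGroup (by simp)
  rw [killed_iff]
  intro κ _ x r hFam H hcov
  -- the primes are all three
  have hodd : ∀ i, Odd (r i) := fun i => (hFam.pr i).odd_of_ne_two (hFam.ne2 i)
  have hr3 : ∀ i, r i = 3 := by
    intro i
    obtain ⟨A, hA, hAr⟩ := exists_iso hF B hB' (x i) (hodd i) (hFam.pow i) (hFam.commt i)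
    have hA1 : A ≠ 1 := by
      rintro rfl
      apply hFam.ne1 i
      rw [hA]
      exact map_one _
    have : Fact (r i).Prime := ⟨hFam.pr i⟩
    have h5 : orderOf A = r i := orderOf_eq_prime hAr hA1
    have h6 : r i ∣ 1152 := by
      rw [← h5, ← card_G hF]
      exact orderOf_dvd_natCard A
    have h7 : (1152 : ℕ) = 2 ^ 7 * 3 ^ 2 := by norm_num
    rw [h7, (hFam.pr i).dvd_mul] at h6
    rcases h6 with h | h
    · exact absurd ((Nat.prime_dvd_prime_iff_eq (hFam.pr i) Nat.prime_two).1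
        ((hFam.pr i).dvd_of_dvd_pow h)) (hFam.ne2 i)
    · exact (Nat.prime_dvd_prime_iff_eq (hFam.pr i) Nat.prime_three).1
        ((hFam.pr i).dvd_of_dvd_pow h)
  by_cases hne : Nonempty κ
  · obtain ⟨i₀⟩ := hne
    have hκ : ∀ i, i = i₀ := fun i => hFam.inj ((hr3 i).trans (hr3 i₀).symm)
    obtain ⟨A, hA, hAr⟩ := exists_iso hF B hB' (x i₀) (hodd i₀) (hFam.pow i₀) (hFam.commt i₀)
    rw [hr3 i₀] at hAr
    obtain ⟨g, a, b, hg⟩ := exists_conj hF h2 A hAr
    have hab : a ≠ 0 ∨ b ≠ 0 := by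
      by_contra hcon
      push Not at hcon
      obtain ⟨rfl, rfl⟩ := hcon
      apply hFam.ne1 i₀
      rw [hA]
      have h5 : g * A * g⁻¹ = 1 := by
        apply Subtype.ext
        rw [hg]
        apply Units.ext
        exact Wm_zero
      have h6 : A = 1 := by
        calc A = g⁻¹ * (g * A * g⁻¹) * g := by group
          _ = 1 := by rw [h5]; group
      rw [h6]
      exact map_one _
    obtain ⟨c, hci, hck, hck'⟩ := exists_c hab
    refine two_step hS (t := gam B) (a := Cj (g : GL (Fin 2 × Fin 2) F)) (x₀ := Cj (W a b))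
      (k := Cj (tv h03 (1 : F))) (q := Cj (tv h03 (-1 : F))) (c := c) hcov i₀ hκ ?_ ?_
      (tv_inn _ _) ne_one_k (tv_inn _ _) ?_ (comm_qt hF B hB') hci hck hck'
    · symm
      rw [gam_comm_Cj_iff]
      refine ⟨1, one_ne_zero, ?_⟩
      have := (mem_iff h2 (g : GL (Fin 2 × Fin 2) F)).1 g.2
      rw [one_smul, hB', this]
    · rw [hA, ← map_mul, ← map_inv, ← map_mul]
      congr 1
    · rw [← map_mul, ← map_mul, tv_W]
  · refine fam_root hS (gam B) H (Cj (tv h03 (1 : F))) (tv_inn _ _) ne_one_k ?_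
      (Subgroup.subset_closure ⟨Cj (tv h03 (-1 : F)), tv_inn _ _, ?_, comm_qt hF B hB'⟩)
    · intro n hn
      rcases hcov.pt n hn with h | ⟨i, -⟩
      · exact Or.inr h
      · exact absurd ⟨i⟩ hne
    · rw [← map_mul, ← map_mul]
      congr 1
      exact tv_comm _ _ (by decide) (by decide) _ _

end Cfsg.Agent.H25.RC

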